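import Groth.Agent.Lib.Ample.External
import Groth.Agent.Lib.ProjMor.QP
import Groth.Agent.Lib.Ample.Basis
import Groth.Agent.H22.StrictTransform.Section

/-!
# Trivializations along a morphism of sections of invertible modules, and blow-ups relative to a morphism
-/

set_option autoImplicit false
set_option maxHeartbeats 1000000

noncomputable section

universe u

open CategoryTheory CategoryTheory.Limits AlgebraicGeometry TopologicalSpace

namespace Groth.Agent.H22.YBlow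

open Groth.Agent.Lib TensorMod TensorMod.Basic TensorMod.Dual TensorMod.Gen TensorMod.Pullback TensorMod.LocIso
  Ample.GenLocus Ample.Pow

variable {X Y : Scheme.{u}}

theorem isIso_of_genLocus_eq_top {L : X.Modules} (s : Coh.structureModule X ⟶ L)
    (h : CohB1.genLocus L s = ⊤) : IsIso s := by
  have hg := (isIso_restrict_iff s _).2 (Ample.Basis.isGen_genLocus s)
  rw [Scheme.Modules.Hom.isIso_iff_isIso_app]
  exact fun U => isIso_app_of_isIso_restrict hg (le_top.trans h.ge)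

theorem isIso_pullback_map_iff (f : Y ⟶ X) {L : X.Modules} (hL : PicF.IsInvertible L)
    (ε : Coh.structureModule X ⟶ L) :
    IsIso ((Scheme.Modules.pullback f).map ε) ↔ Set.range f ⊆ (CohB1.genLocus L ε : Set X) := by
  have hloc := genLocus_pullback f hL ε (PicLoc.pullbackStructureIso f).symm
  constructor
  · intro h
    have htop : CohB1.genLocus _ ((PicLoc.pullbackStructureIso f).inv ≫ (pb f).map ε) = ⊤ := by
      have e := genLocus_comp_iso (𝟙 (Coh.structureModule Y))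
        ((PicLoc.pullbackStructureIso f).symm ≪≫ @asIso _ _ _ _ ((pb f).map ε) h)
      rw [genLocus_id, Category.id_comp] at e
      exact e
    rintro _ ⟨y, rfl⟩
    exact (hloc.le : _) (htop.ge (Opens.mem_top y))
  · intro h
    have htop : CohB1.genLocus _ ((PicLoc.pullbackStructureIso f).inv ≫ (pb f).map ε) = ⊤ :=
      top_le_iff.1 fun y _ => hloc.ge (h ⟨y, rfl⟩)
    haveI := isIso_of_genLocus_eq_top _ htop
    exact IsIso.of_isIso_comp_left (PicLoc.pullbackStructureIso f).inv ((pb f).map ε)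

/-- A trivialized relatively ample module. -/
def IsTriv {Z : Scheme.{u}} (f : Y ⟶ Z) (g : Z ⟶ X) : Prop :=
  ∃ (L : Z.Modules) (ε : Coh.structureModule Z ⟶ L),
    RelAmple.IsRelAmple g L ∧ IsIso ((Scheme.Modules.pullback f).map ε)

theorem isTriv_comp [CompactSpace X] {Z W : Scheme.{u}} (f : Y ⟶ W) (d : W ⟶ Z) (g : Z ⟶ X)
    (h₁ : IsTriv (f ≫ d) g) (h₂ : IsTriv f d) : IsTriv f (d ≫ g) := by
  obtain ⟨K, ε, hK, hε⟩ := h₁
  obtain ⟨L, δ, hL, hδ⟩ := h₂
  obtain ⟨n, hn, hamp⟩ := ProjMor.QP.eventually_isRelAmple_comp d g hL hK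
  have hKi := Ample.RelAmple.isInvertible_of_isRelAmple hK
  have hLi := Ample.RelAmple.isInvertible_of_isRelAmple hL
  have hKn := Invertible.isInvertible_tensorPow hKi n
  let εn := SecTwist.powHom ε n
  let σ := (PicLoc.pullbackStructureIso d).symm.hom ≫ (pb d).map εn
  refine ⟨_, SecTwist.tmulHom δ σ, hamp n le_rfl, ?_⟩
  rw [isIso_pullback_map_iff f (Ample.RelAmple.isInvertible_of_isRelAmple (hamp n le_rfl)),
    genLocus_tmulHom hLi (PicLoc.isInvertible_pullback d hKn), genLocus_pullback d hKn,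
    genLocus_powHom hKi ε n hn]
  rw [isIso_pullback_map_iff f hLi] at hδ
  rw [isIso_pullback_map_iff (f ≫ d) hKi] at hε
  rintro _ ⟨y, rfl⟩
  exact ⟨hδ ⟨y, rfl⟩, hε ⟨y, rfl⟩⟩

theorem isTriv_external {Z₁ Z₂ Z : Scheme.{u}} (f : Y ⟶ Z) (d₁ : Z ⟶ Z₁) (d₂ : Z ⟶ Z₂) (F : Z ⟶ X)
    {g₁ : Z₁ ⟶ X} {g₂ : Z₂ ⟶ X} (e₁ : d₁ ≫ g₁ = F) (e₂ : d₂ ≫ g₂ = F)
    (hk : IsClosedImmersion (pullback.lift d₁ d₂ (e₁.trans e₂.symm))) [QuasiCompact F]
    (h₁ : IsTriv (f ≫ d₁) g₁) (h₂ : IsTriv (f ≫ d₂) g₂) : IsTriv f F := by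
  obtain ⟨K, ε, hK, hε⟩ := h₁
  obtain ⟨L, δ, hL, hδ⟩ := h₂
  have hKi := Ample.RelAmple.isInvertible_of_isRelAmple hK
  have hLi := Ample.RelAmple.isInvertible_of_isRelAmple hL
  have hamp := Ample.External.isRelAmple_external d₁ d₂ F e₁ e₂ hk hK hL
  let σ₁ := (PicLoc.pullbackStructureIso d₁).symm.hom ≫ (pb d₁).map ε
  let σ₂ := (PicLoc.pullbackStructureIso d₂).symm.hom ≫ (pb d₂).map δ
  refine ⟨_, SecTwist.tmulHom σ₁ σ₂, hamp, ?_⟩
  rw [isIso_pullback_map_iff f (Ample.RelAmple.isInvertible_of_isRelAmple hamp),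
    genLocus_tmulHom (PicLoc.isInvertible_pullback d₁ hKi) (PicLoc.isInvertible_pullback d₂ hLi),
    genLocus_pullback d₁ hKi, genLocus_pullback d₂ hLi]
  rw [isIso_pullback_map_iff (f ≫ d₁) hKi] at hε
  rw [isIso_pullback_map_iff (f ≫ d₂) hLi] at hδ
  rintro _ ⟨y, rfl⟩
  exact ⟨hε ⟨y, rfl⟩, hδ ⟨y, rfl⟩⟩

end Groth.Agent.H22.YBlow
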